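import Mathlib
set_option linter.style.haveILetI false

/-! Smoothness of the fixed points of a finite group of invertible order. -/

universe u v

namespace Groth.Agent.H23Fix

variable {R A : Type u} [CommRing R] [CommRing A] [Algebra R A] {G : Type v}

/-- The ideal of the fixed points. -/
def fixedIdeal (σ : G → (A →ₐ[R] A)) : Ideal A := Ideal.span (Set.range fun p : G × A => σ p.1 p.2 - p.2)

theorem sub_mem_fixedIdeal (σ : G → (A →ₐ[R] A)) (g : G) (a : A) : σ g a - a ∈ fixedIdeal σ :=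
  Ideal.subset_span ⟨(g, a), rfl⟩

theorem mk_sigma (σ : G → (A →ₐ[R] A)) (g : G) (a : A) :
    Ideal.Quotient.mkₐ R (fixedIdeal σ) (σ g a) = Ideal.Quotient.mkₐ R (fixedIdeal σ) a :=
  Ideal.Quotient.eq.2 (sub_mem_fixedIdeal σ g a)

theorem fg_fixedIdeal [Algebra.FiniteType R A] [Finite G] (σ : G → (A →ₐ[R] A)) :
    (fixedIdeal σ).FG := by
  classical
  haveI := Fintype.ofFinite G
  obtain ⟨s, hs⟩ := ‹Algebra.FiniteType R A›.out
  refine ⟨(Finset.univ ×ˢ s).image fun p => σ p.1 p.2 - p.2, ?_⟩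
  refine le_antisymm (Ideal.span_le.2 fun x hx => ?_) (Ideal.span_le.2 ?_)
  · obtain ⟨p, -, rfl⟩ := Finset.mem_image.1 hx
    exact sub_mem_fixedIdeal σ p.1 p.2
  rintro _ ⟨⟨g, a⟩, rfl⟩
  set I₀ := Ideal.span (((Finset.univ ×ˢ s).image fun p => σ p.1 p.2 - p.2 : Finset A) : Set A)
  have h : (⊤ : Subalgebra R A) ≤
      AlgHom.equalizer ((Ideal.Quotient.mkₐ R I₀).comp (σ g)) (Ideal.Quotient.mkₐ R I₀) := by
    rw [← hs, Algebra.adjoin_le_iff]
    exact fun b hb => Ideal.Quotient.eq.2 (Ideal.subset_span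
      (Finset.mem_image.2 ⟨(g, b), Finset.mem_product.2 ⟨Finset.mem_univ _, hb⟩, rfl⟩))
  exact Ideal.Quotient.eq.1 (h (Algebra.mem_top (x := a)))

theorem formallySmooth_fixed [Algebra.FormallySmooth R A] [Finite G] [Nonempty G] (σ : G → (A →ₐ[R] A))
    (hmul : ∀ h, ∃ e : G ≃ G, ∀ g, (σ g).comp (σ h) = σ (e g)) (hn : IsUnit (Nat.card G : R)) :
    Algebra.FormallySmooth R (A ⧸ fixedIdeal σ) := by
  classical
  haveI := Fintype.ofFinite G
  refine .of_comp_surjective fun C _ _ J hJ f => ?_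
  obtain ⟨φ, hφ⟩ := Algebra.FormallySmooth.comp_surjective R A J hJ
    (f.comp (Ideal.Quotient.mkₐ R (fixedIdeal σ)))
  have hφ' : ∀ a, Ideal.Quotient.mk J (φ a) = f (Ideal.Quotient.mkₐ R (fixedIdeal σ) a) :=
    fun a => AlgHom.congr_fun hφ a
  have hJ2 : ∀ x ∈ J, ∀ y ∈ J, x * y = 0 := fun x hx y hy => by
    have := Ideal.mul_mem_mul hx hy
    rwa [← sq, hJ] at this
  obtain ⟨u, hu⟩ := (hn.map (algebraMap R C)).exists_left_inv
  rw [map_natCast, Nat.card_eq_fintype_card] at hu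
  let g₀ : G := Classical.arbitrary G
  have hd : ∀ g a, φ (σ g a) - φ (σ g₀ a) ∈ J := fun g a => by
    rw [← Ideal.Quotient.eq, hφ', hφ', mk_sigma, mk_sigma]
  let ψ₀ : A → C := fun a => u * ∑ g, φ (σ g a)
  have hsum : ∀ a, ∑ g, φ (σ g a) =
      (Fintype.card G : C) * φ (σ g₀ a) + ∑ g, (φ (σ g a) - φ (σ g₀ a)) := fun a => by
    rw [Finset.sum_sub_distrib, Finset.sum_const, nsmul_eq_mul, Finset.card_univ]
    ring
  have hmul' : ∀ a b, ψ₀ (a * b) = ψ₀ a * ψ₀ b := by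
    intro a b
    have h1 : ∑ g, φ (σ g (a * b)) = (Fintype.card G : C) * (φ (σ g₀ a) * φ (σ g₀ b)) +
        φ (σ g₀ a) * ∑ g, (φ (σ g b) - φ (σ g₀ b)) + φ (σ g₀ b) * ∑ g, (φ (σ g a) - φ (σ g₀ a)) := by
      rw [Finset.mul_sum, Finset.mul_sum, ← nsmul_eq_mul, ← Finset.card_univ, ← Finset.sum_const,
        ← Finset.sum_add_distrib, ← Finset.sum_add_distrib]
      refine Finset.sum_congr rfl fun g _ => ?_
      rw [map_mul, map_mul]
      linear_combination hJ2 _ (hd g a) _ (hd g b)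
    have h2 : (∑ g, (φ (σ g a) - φ (σ g₀ a))) * ∑ g, (φ (σ g b) - φ (σ g₀ b)) = 0 :=
      hJ2 _ (sum_mem fun g _ => hd g a) _ (sum_mem fun g _ => hd g b)
    simp only [ψ₀]
    rw [h1, hsum a, hsum b]
    linear_combination (-(u * u)) * h2 + (-u * ((Fintype.card G : C) * (φ (σ g₀ a) * φ (σ g₀ b)) +
      φ (σ g₀ a) * ∑ g, (φ (σ g b) - φ (σ g₀ b)) + φ (σ g₀ b) * ∑ g, (φ (σ g a) - φ (σ g₀ a)))) * hu
  let ψ : A →ₐ[R] C :=
    { toFun := ψ₀
      map_one' := by simp [ψ₀, hu]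
      map_mul' := hmul'
      map_zero' := by simp [ψ₀]
      map_add' := fun a b => by simp [ψ₀, Finset.sum_add_distrib, mul_add]
      commutes' := fun r => by
        simp only [ψ₀, AlgHom.commutes, Finset.sum_const, Finset.card_univ, nsmul_eq_mul, ← mul_assoc, hu, one_mul] }
  refine ⟨Ideal.Quotient.liftₐ (fixedIdeal σ) ψ ?_, ?_⟩
  · suffices fixedIdeal σ ≤ RingHom.ker ψ.toRingHom from fun a ha => this ha
    refine Ideal.span_le.2 ?_
    rintro _ ⟨⟨h, a⟩, rfl⟩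
    obtain ⟨e, he⟩ := hmul h
    show ψ (σ h a - a) = 0
    rw [map_sub, sub_eq_zero]
    show u * _ = u * _
    refine congrArg (u * ·) ?_
    exact Fintype.sum_equiv e _ _ fun g => congrArg φ (AlgHom.congr_fun (he g) a)
  · refine Ideal.Quotient.algHom_ext R (AlgHom.ext fun a => ?_)
    show Ideal.Quotient.mk J (u * ∑ g, φ (σ g a)) = f (Ideal.Quotient.mkₐ R (fixedIdeal σ) a)
    rw [map_mul, map_sum]
    simp only [hφ', mk_sigma]
    rw [Finset.sum_const, Finset.card_univ, nsmul_eq_mul, ← mul_assoc,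
      ← map_natCast (Ideal.Quotient.mk J), ← map_mul, hu, map_one, one_mul]

theorem smooth_fixed [Algebra.Smooth R A] [Finite G] [Nonempty G] (σ : G → (A →ₐ[R] A))
    (hmul : ∀ h, ∃ e : G ≃ G, ∀ g, (σ g).comp (σ h) = σ (e g)) (hn : IsUnit (Nat.card G : R)) :
    Algebra.Smooth R (A ⧸ fixedIdeal σ) :=
  ⟨formallySmooth_fixed σ hmul hn, Algebra.FinitePresentation.quotient (fg_fixedIdeal σ)⟩

end Groth.Agent.H23Fix
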