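import Mathlib
import Groth.Agent.H23Fix.Alg
set_option linter.style.haveILetI false
set_option backward.isDefEq.respectTransparency false

/-! The fixed point scheme of a finite group acting on a smooth separated scheme. -/

universe u v

open CategoryTheory CategoryTheory.Limits AlgebraicGeometry

namespace Groth.Agent.H23Fix

variable {S X : Scheme.{u}} (f : X ⟶ S)

theorem exists_equalizer [IsSeparated f] (φ : X ⟶ X) (hφ : φ ≫ f = f) :
    ∃ (E : Scheme.{u}) (j : E ⟶ X), IsClosedImmersion j ∧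
      ∀ (T : Scheme.{u}) (t : T ⟶ X), t ≫ φ = t ↔ ∃ t' : T ⟶ E, t' ≫ j = t := by
  let δ : X ⟶ pullback f f := pullback.lift (𝟙 X) φ (by rw [hφ, Category.id_comp])
  have hδ1 : δ ≫ pullback.fst f f = 𝟙 X := pullback.lift_fst _ _ _
  have hδ2 : δ ≫ pullback.snd f f = φ := pullback.lift_snd _ _ _
  refine ⟨pullback (pullback.diagonal f) δ, pullback.snd _ _, inferInstance, fun T t => ⟨fun h => ?_, ?_⟩⟩
  · refine ⟨pullback.lift t t ?_, pullback.lift_snd _ _ _⟩
    apply pullback.hom_ext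
    · simp [hδ1]
    · simp [hδ2, h]
  · rintro ⟨t', rfl⟩
    have h := pullback.condition (f := pullback.diagonal f) (g := δ)
    have h1 := congrArg (· ≫ pullback.fst f f) h
    have h2 := congrArg (· ≫ pullback.snd f f) h
    simp [hδ1, hδ2] at h1 h2
    rw [Category.assoc, ← h2, h1]

theorem exists_fixed [IsSeparated f] {G : Type v} (φ : G → (X ⟶ X)) (hφ : ∀ g, φ g ≫ f = f)
    (s : Finset G) :
    ∃ (E : Scheme.{u}) (j : E ⟶ X), IsClosedImmersion j ∧
      ∀ (T : Scheme.{u}) (t : T ⟶ X), (∀ g ∈ s, t ≫ φ g = t) ↔ ∃ t' : T ⟶ E, t' ≫ j = t := by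
  classical
  induction s using Finset.induction_on with
  | empty => exact ⟨X, 𝟙 X, inferInstance, fun T t => ⟨fun _ => ⟨t, Category.comp_id t⟩, fun _ g hg => absurd hg (Finset.notMem_empty g)⟩⟩
  | insert g s hg ih =>
    obtain ⟨E, j, hj, hE⟩ := ih
    obtain ⟨E', j', hj', hE'⟩ := exists_equalizer f (φ g) (hφ g)
    refine ⟨pullback j j', pullback.fst j j' ≫ j, inferInstance, fun T t => ⟨fun h => ?_, ?_⟩⟩
    · obtain ⟨a, ha⟩ := (hE T t).1 fun x hx => h x (Finset.mem_insert_of_mem hx)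
      obtain ⟨b, hb⟩ := (hE' T t).1 (h g (Finset.mem_insert_self g s))
      exact ⟨pullback.lift a b (ha.trans hb.symm), by rw [pullback.lift_fst_assoc, ha]⟩
    · rintro ⟨t', rfl⟩ x hx
      rcases Finset.mem_insert.1 hx with rfl | hx
      · exact (hE' T _).2 ⟨t' ≫ pullback.snd j j', by rw [Category.assoc, ← pullback.condition]⟩
      · exact (hE T _).2 ⟨t' ≫ pullback.fst j j', Category.assoc _ _ _⟩ x hx

theorem isAffineOpen_inf_over [IsSeparated f] {V : S.Opens} (hV : IsAffineOpen V) {U₁ U₂ : X.Opens}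
    (h₁ : IsAffineOpen U₁) (h₂ : IsAffineOpen U₂) (e₁ : U₁ ≤ f ⁻¹ᵁ V) (e₂ : U₂ ≤ f ⁻¹ᵁ V) :
    IsAffineOpen (U₁ ⊓ U₂) := by
  haveI : IsAffine (V : Scheme.{u}) := hV
  haveI : (f ⁻¹ᵁ V : Scheme.{u}).IsSeparated := ⟨by
    rw [← terminal.comp_from (f ∣_ V)]
    infer_instance⟩
  let P := f ⁻¹ᵁ V
  have hpre : ∀ U : X.Opens, IsAffineOpen U → U ≤ P → IsAffineOpen (P.ι ⁻¹ᵁ U) := fun U hU he =>
    hU.preimage_of_isOpenImmersion P.ι (by rwa [Scheme.Opens.opensRange_ι])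
  have h := ((hpre U₁ h₁ e₁).inf (hpre U₂ h₂ e₂)).image_of_isOpenImmersion P.ι
  have e : P.ι ''ᵁ (P.ι ⁻¹ᵁ U₁ ⊓ P.ι ⁻¹ᵁ U₂) = U₁ ⊓ U₂ := by
    rw [← Scheme.Hom.preimage_inf, Scheme.Hom.image_preimage_eq_opensRange_inf, Scheme.Opens.opensRange_ι]
    exact inf_eq_right.2 (inf_le_left.trans e₁)
  rwa [e] at h

theorem isAffineOpen_inf'_over [IsSeparated f] {V : S.Opens} (hV : IsAffineOpen V) {G : Type v}
    (s : Finset G) (hs : s.Nonempty) (U : G → X.Opens) (hU : ∀ g, IsAffineOpen (U g))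
    (he : ∀ g, U g ≤ f ⁻¹ᵁ V) : IsAffineOpen (s.inf' hs U) := by
  suffices h : IsAffineOpen (s.inf' hs U) ∧ s.inf' hs U ≤ f ⁻¹ᵁ V from h.1
  induction hs using Finset.Nonempty.cons_induction with
  | singleton g => exact ⟨by rw [Finset.inf'_singleton]; exact hU g, by rw [Finset.inf'_singleton]; exact he g⟩
  | cons g s hg hs ih =>
    rw [Finset.inf'_cons hs U]
    exact ⟨isAffineOpen_inf_over f hV (hU g) ih.1 (he g) ih.2, inf_le_left.trans (he g)⟩

variable {Z : Scheme.{u}}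

theorem smooth_fixed_scheme [Smooth f] [IsSeparated f] {G : Type v} [Group G] [Finite G]
    (φ : G → (X ⟶ X)) (hone : φ 1 = 𝟙 X) (hφmul : ∀ g h, φ (g * h) = φ h ≫ φ g) (hφ : ∀ g, φ g ≫ f = f)
    (hG : IsUnit (Nat.card G : Γ(S, ⊤)))
    (i : Z ⟶ X) [IsClosedImmersion i] (hi : ∀ g, i ≫ φ g = i)
    (hZ : ∀ (T : Scheme.{u}) (t : T ⟶ X), (∀ g, t ≫ φ g = t) → ∃ t' : T ⟶ Z, t' ≫ i = t) :
    Smooth (i ≫ f) := by
  classical
  haveI := Fintype.ofFinite G
  haveI : MorphismProperty.RespectsIso @Smooth := MorphismProperty.IsStableUnderBaseChange.respectsIso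
  suffices h : ∀ z : Z, ∃ U : Z.Opens, z ∈ U ∧ Smooth (U.ι ≫ i ≫ f) by
    choose U hzU hU using h
    exact (IsZariskiLocalAtSource.iff_of_iSup_eq_top U
      (eq_top_iff.2 fun z _ => TopologicalSpace.Opens.mem_iSup.2 ⟨z, hzU z⟩)).2 hU
  intro z
  obtain ⟨_, ⟨V, hV, rfl⟩, hzV, -⟩ :=
    S.isBasis_affineOpens.exists_subset_of_mem_open (Set.mem_univ (f (i z))) isOpen_univ
  obtain ⟨_, ⟨W₀, hW₀, rfl⟩, hxW₀, hW₀V⟩ :=
    X.isBasis_affineOpens.exists_subset_of_mem_open (a := i z) (u := (f ⁻¹ᵁ V : Set X)) hzV (f ⁻¹ᵁ V).2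
  haveI hiso : ∀ g, IsIso (φ g) := fun g => ⟨φ g⁻¹, by rw [← hφmul, inv_mul_cancel, hone],
    by rw [← hφmul, mul_inv_cancel, hone]⟩
  let W : X.Opens := Finset.univ.inf' Finset.univ_nonempty fun g => φ g ⁻¹ᵁ W₀
  have hW : IsAffineOpen W := isAffineOpen_inf'_over f hV _ _ _
    (fun g => IsAffineOpen.preimage_of_isIso hW₀ (φ g)) fun g x hx => by
      have h1 := hW₀V hx
      rw [SetLike.mem_coe, Scheme.Hom.mem_preimage, ← Scheme.Hom.comp_apply, hφ g] at h1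
      exact h1
  have hzW : i z ∈ W := Finset.inf'_induction (p := fun U : X.Opens => i z ∈ U) _ _
    (fun U₁ h₁ U₂ h₂ => ⟨h₁, h₂⟩) fun g _ => by
      rw [Scheme.Hom.mem_preimage, ← Scheme.Hom.comp_apply, hi g]
      exact hxW₀
  have hWV : W ≤ f ⁻¹ᵁ V := (Finset.inf'_le _ (Finset.mem_univ (1 : G))).trans (by
    rw [hone]; exact hW₀V)
  have hWg : ∀ g, W ≤ φ g ⁻¹ᵁ W := fun g x hx => by
    refine Finset.inf'_induction (p := fun U : X.Opens => φ g x ∈ U) _ _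
      (fun U₁ h₁ U₂ h₂ => ⟨h₁, h₂⟩) fun g' _ => ?_
    have h1 := Finset.inf'_le (fun g'' => φ g'' ⁻¹ᵁ W₀) (Finset.mem_univ (g' * g)) hx
    simp only [Scheme.Hom.mem_preimage, hφmul, Scheme.Hom.comp_apply] at h1 ⊢
    exact h1
  let U : Z.Opens := i ⁻¹ᵁ W
  have hU : IsAffineOpen U := hW.preimage i
  have hUV : U ≤ (i ≫ f) ⁻¹ᵁ V := fun w hw => hWV hw
  refine ⟨U, hzW, ?_⟩
  suffices hsm : ((i ≫ f).appLE V U hUV).hom.Smooth by
    haveI : Smooth (Spec.map ((i ≫ f).appLE V U hUV)) := (HasRingHomProperty.Spec_iff (P := @Smooth)).2 hsm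
    have e : U.ι ≫ i ≫ f = hU.isoSpec.hom ≫ Spec.map ((i ≫ f).appLE V U hUV) ≫ hV.fromSpec := by
      rw [IsAffineOpen.SpecMap_appLE_fromSpec _ hV hU, IsAffineOpen.isoSpec_hom_fromSpec_assoc]
    rw [e]
    infer_instance
  have hfs : (f.appLE V W hWV).hom.Smooth := HasRingHomProperty.appLE (P := @Smooth) f inferInstance ⟨V, hV⟩ ⟨W, hW⟩ hWV
  letI : Algebra Γ(S, V) Γ(X, W) := (f.appLE V W hWV).hom.toAlgebra
  haveI : Algebra.Smooth Γ(S, V) Γ(X, W) := hfs
  let σ : G → (Γ(X, W) →ₐ[Γ(S, V)] Γ(X, W)) := fun g =>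
    { toRingHom := ((φ g).appLE W W (hWg g)).hom
      commutes' := fun r => by
        show (f.appLE V W hWV ≫ (φ g).appLE W W (hWg g)).hom r = (f.appLE V W hWV).hom r
        rw [Scheme.Hom.appLE_comp_appLE]
        simp only [hφ g] }
  have hmul : ∀ h, ∃ e : G ≃ G, ∀ g, (σ g).comp (σ h) = σ (e g) := fun h => ⟨Equiv.mulLeft h, fun g =>
    AlgHom.ext fun a => by
      show ((φ h).appLE W W (hWg h) ≫ (φ g).appLE W W (hWg g)).hom a = ((φ (h * g)).appLE W W (hWg _)).hom a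
      rw [Scheme.Hom.appLE_comp_appLE]
      simp only [hφmul]⟩
  have hn : IsUnit (Nat.card G : Γ(S, V)) := by
    have := hG.map (S.presheaf.map (homOfLE (le_top : V ≤ ⊤)).op).hom
    rwa [map_natCast] at this
  haveI := smooth_fixed σ hmul hn
  let π := i.appLE W U le_rfl
  have hπsurj : Function.Surjective π.hom := by
    rw [show π = i.app W from (Scheme.Hom.app_eq_appLE i).symm]
    exact Scheme.Hom.app_surjective i W hW
  have hle : fixedIdeal σ ≤ RingHom.ker π.hom := by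
    refine Ideal.span_le.2 ?_
    rintro _ ⟨⟨g, a⟩, rfl⟩
    show π.hom (((φ g).appLE W W (hWg g)).hom a - a) = 0
    rw [map_sub, sub_eq_zero]
    show ((φ g).appLE W W (hWg g) ≫ i.appLE W U le_rfl).hom a = _
    rw [Scheme.Hom.appLE_comp_appLE]
    simp only [hi g]
    rfl
  have hge : RingHom.ker π.hom ≤ fixedIdeal σ := by
    let mkI : Γ(X, W) ⟶ CommRingCat.of (Γ(X, W) ⧸ fixedIdeal σ) := CommRingCat.ofHom (Ideal.Quotient.mk _)
    let q := Spec.map mkI ≫ hW.fromSpec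
    obtain ⟨t', ht'⟩ := hZ _ q fun g => by
      rw [Category.assoc, ← IsAffineOpen.SpecMap_appLE_fromSpec (φ g) hW hW (hWg g), ← Spec.map_comp_assoc]
      congr 2
      ext a
      exact mk_sigma σ g a
    have hrange : Set.range t' ⊆ Set.range U.ι := by
      rintro _ ⟨w, rfl⟩
      rw [Scheme.Opens.range_ι]
      show i (t' w) ∈ W
      rw [← Scheme.Hom.comp_apply, ht']
      have : hW.fromSpec (Spec.map mkI w) ∈ Set.range hW.fromSpec := ⟨_, rfl⟩
      rwa [hW.range_fromSpec] at this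
    let t'' := IsOpenImmersion.lift U.ι t' hrange
    obtain ⟨χ, hχ⟩ := Spec.map_surjective (t'' ≫ hU.isoSpec.hom)
    have h1 : Spec.map χ ≫ hU.fromSpec = t' := by
      rw [hχ, Category.assoc, IsAffineOpen.isoSpec_hom_fromSpec, IsOpenImmersion.lift_fac]
    have h2 : Spec.map (π ≫ χ) = Spec.map mkI := by
      rw [← cancel_mono hW.fromSpec, Spec.map_comp, Category.assoc,
        IsAffineOpen.SpecMap_appLE_fromSpec i hW hU le_rfl, ← Category.assoc, h1, ht']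
    intro a ha
    rw [← Ideal.Quotient.eq_zero_iff_mem]
    have h3 := RingHom.congr_fun (congrArg CommRingCat.Hom.hom (Spec.map_injective h2)) a
    refine h3.symm.trans ?_
    show χ.hom (π.hom a) = 0
    rw [show π.hom a = 0 from ha, map_zero]
  letI : Algebra Γ(S, V) Γ(Z, U) := ((i ≫ f).appLE V U hUV).hom.toAlgebra
  let πA : Γ(X, W) →ₐ[Γ(S, V)] Γ(Z, U) :=
    { toRingHom := π.hom
      commutes' := fun r => by
        show (f.appLE V W hWV ≫ i.appLE W U le_rfl).hom r = _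
        rw [Scheme.Hom.appLE_comp_appLE]
        rfl }
  have hker : fixedIdeal σ = RingHom.ker πA := le_antisymm hle hge
  exact Algebra.Smooth.of_equiv ((Ideal.quotientEquivAlgOfEq _ hker).trans
    (Ideal.quotientKerAlgEquivOfSurjective (f := πA) hπsurj))

theorem main {X Z : Over S} [Smooth X.hom] [QuasiCompact X.hom] [IsSeparated X.hom]
    {G : Type v} [Group G] [Finite G] (ρ : G →* Aut X) (hG : IsUnit (Nat.card G : Γ(S, ⊤)))
    (ι : Z ⟶ X) (hι : ∀ g : G, ι ≫ (ρ g).hom = ι)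
    (hZ : ∀ (T : Over S) (t : T ⟶ X), (∀ g : G, t ≫ (ρ g).hom = t) ↔ ∃! t' : T ⟶ Z, t' ≫ ι = t) :
    IsClosedImmersion ι.left ∧ Smooth Z.hom ∧ QuasiCompact Z.hom ∧ QuasiSeparated Z.hom := by
  classical
  haveI := Fintype.ofFinite G
  let φ : G → (X.left ⟶ X.left) := fun g => (ρ g).hom.left
  have hφ : ∀ g, φ g ≫ X.hom = X.hom := fun g => Over.w (ρ g).hom
  have hiφ : ∀ g, ι.left ≫ φ g = ι.left := fun g => congrArg Over.Hom.left (hι g)
  have hfac : ∀ (T : Scheme.{u}) (t : T ⟶ X.left), (∀ g, t ≫ φ g = t) → ∃ t' : T ⟶ Z.left, t' ≫ ι.left = t := by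
    intro T t ht
    obtain ⟨t', e, -⟩ := (hZ (Over.mk (t ≫ X.hom)) (Over.homMk t rfl)).1
      fun g => Over.OverMorphism.ext (ht g)
    exact ⟨t'.left, congrArg Over.Hom.left e⟩
  haveI hmono : Mono ι.left := by
    refine ⟨fun {T} a b hab => ?_⟩
    let T' : Over S := Over.mk (a ≫ Z.hom)
    have hb : b ≫ Z.hom = a ≫ Z.hom := by
      rw [← Over.w ι, ← Category.assoc, ← hab, Category.assoc]
    let a' : T' ⟶ Z := Over.homMk a rfl
    let b' : T' ⟶ Z := Over.homMk b hb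
    obtain ⟨c, -, huniq⟩ := (hZ T' (a' ≫ ι)).1 fun g => by rw [Category.assoc, hι g]
    exact congrArg Over.Hom.left ((huniq a' rfl).trans (huniq b' (Over.OverMorphism.ext hab.symm)).symm)
  obtain ⟨E, j, hj, hE⟩ := exists_fixed X.hom φ hφ Finset.univ
  obtain ⟨a, ha⟩ := (hE Z.left ι.left).1 fun g _ => hiφ g
  obtain ⟨b, hb⟩ := hfac E j fun g => (hE E j).2 ⟨𝟙 E, Category.id_comp j⟩ g (Finset.mem_univ g)
  haveI : IsIso a := ⟨b, by rw [← cancel_mono ι.left, Category.assoc, hb, ha, Category.id_comp],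
    by rw [← cancel_mono j, Category.assoc, ha, hb, Category.id_comp]⟩
  haveI : IsClosedImmersion ι.left := by rw [← ha]; infer_instance
  rw [← Over.w ι]
  refine ⟨inferInstance, ?_, inferInstance, inferInstance⟩
  refine smooth_fixed_scheme X.hom φ ?_ (fun g h => ?_) hφ hG ι.left hiφ hfac
  · show (ρ 1).hom.left = _
    rw [map_one]; rfl
  · show (ρ (g * h)).hom.left = _
    rw [map_mul]; rfl

end Groth.Agent.H23Fix
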